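import Groth.Agent.H7Lim.NormalPoint
import Groth.Agent.H17.Reduced
import Groth.Agent.H06Unram.DimInjective
import Mathlib.AlgebraicGeometry.ValuativeCriterion
import Mathlib.AlgebraicGeometry.Noetherian
import Mathlib.AlgebraicGeometry.Morphisms.Separated

/-!
# Rational sections of separated unramified formally proper morphisms over a normal base extend
-/

set_option autoImplicit false
set_option linter.style.haveILetI false
set_option linter.unusedVariables false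
set_option backward.isDefEq.respectTransparency false

universe u

open CategoryTheory CategoryTheory.Limits AlgebraicGeometry TopologicalSpace

namespace Groth.Agent.H06FormProper

/-- On an integral normal base. -/
theorem exists_local_section {Z S : Scheme.{u}} [IsIntegral S] (f : Z ⟶ S) [IsSeparated f]
    [FormallyUnramified f] [LocallyOfFiniteType f]
    (hN : ∀ y : S, IsIntegrallyClosed (S.presheaf.stalk y)) (hfp : SpecializingMap f)
    (U : S.Opens) (hU : (U : Set S).Nonempty) (v : U.toScheme ⟶ Z) (hv : v ≫ f = U.ι) (s : S) :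
    ∃ (V : S.Opens) (σ : V.toScheme ⟶ Z), s ∈ V ∧ σ ≫ f = V.ι ∧
      S.homOfLE (inf_le_right : U ⊓ V ≤ V) ≫ σ = S.homOfLE (inf_le_left : U ⊓ V ≤ U) ≫ v := by
  obtain ⟨u₀, hu₀⟩ := hU
  have hηU : genericPoint S ∈ U := ((genericPoint_spec S).mem_open_set_iff U.2).2 ⟨u₀, trivial, hu₀⟩
  haveI : Nonempty U.toScheme := ⟨⟨u₀, hu₀⟩⟩
  haveI : IsIntegral U.toScheme := inferInstance
  have hgU : U.ι (genericPoint U.toScheme) = genericPoint S := genericPoint_eq_of_isOpenImmersion U.ι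
  let ξ := v (genericPoint U.toScheme)
  have hξ : f ξ = genericPoint S := by rw [← Scheme.Hom.comp_apply, hv, hgU]
  -- the closure of the section
  let C : Closeds Z := ⟨closure {ξ}, isClosed_closure⟩
  let J := Scheme.IdealSheafData.vanishingIdeal C
  let Γ' := J.subscheme
  let ι := J.subschemeι
  have hrange : Set.range ι = closure {ξ} := H17.range_vanishingIdeal_subschemeι C
  haveI : IsReduced Γ' := H17.isReduced_vanishingIdeal_subscheme C
  haveI : IrreducibleSpace Γ' := by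
    obtain ⟨w₀, hw₀⟩ : ξ ∈ Set.range ι := hrange ▸ subset_closure rfl
    have h : ∀ x : Γ', w₀ ⤳ x := fun x => ι.isClosedEmbedding.isEmbedding.isInducing.specializes_iff.1
      (by rw [hw₀]; exact specializes_iff_mem_closure.2 (hrange ▸ ⟨x, rfl⟩))
    haveI : Nonempty Γ' := ⟨w₀⟩
    have hu : closure ({w₀} : Set Γ') = Set.univ :=
      Set.eq_univ_of_forall fun x => specializes_iff_mem_closure.1 (h x)
    refine (irreducibleSpace_def Γ').2 ?_
    show IsIrreducible (Set.univ : Set Γ')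
    rw [← hu]
    exact isIrreducible_singleton.closure
  haveI : IsIntegral Γ' := isIntegral_of_irreducibleSpace_of_isReduced _
  obtain ⟨w, hw⟩ : ∃ w : U.toScheme ⟶ Γ', w ≫ ι = v := by
    refine H17.exists_lift_immersion_of_range_subset v ι ?_
    rintro _ ⟨x, rfl⟩
    rw [hrange, ← specializes_iff_mem_closure]
    exact (((genericPoint_spec U.toScheme).specializes trivial : genericPoint U.toScheme ⤳ x)).map v.continuous
  let γ := ι ≫ f
  have hwγ : w ≫ γ = U.ι := by rw [← Category.assoc, hw, hv]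
  -- generic points and the function fields
  have hgen : γ (genericPoint Γ') = genericPoint S := by
    have h1 : ι (genericPoint Γ') ⤳ ξ := by
      obtain ⟨x, hx⟩ : ξ ∈ Set.range ι := hrange ▸ subset_closure rfl
      exact hx ▸ ((genericPoint_spec Γ').specializes trivial : genericPoint Γ' ⤳ x).map ι.continuous
    have h2 : ξ ⤳ ι (genericPoint Γ') := specializes_iff_mem_closure.2 (hrange ▸ ⟨_, rfl⟩)
    rw [Scheme.Hom.comp_apply, (h1.antisymm h2).eq, hξ]
  have hwgen : w (genericPoint U.toScheme) = genericPoint Γ' := by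
    apply ι.isClosedEmbedding.injective
    have h1 : ι (genericPoint Γ') ⤳ ι (w (genericPoint U.toScheme)) :=
      ((genericPoint_spec Γ').specializes trivial : genericPoint Γ' ⤳ _).map ι.continuous
    have h2 : ξ ⤳ ι (genericPoint Γ') := specializes_iff_mem_closure.2 (hrange ▸ ⟨_, rfl⟩)
    rw [← Scheme.Hom.comp_apply, hw] at h1 ⊢
    exact (h2.antisymm h1).eq
  haveI : IsIso (γ.stalkMap (genericPoint Γ')) := by
    rw [← hwgen]
    haveI : IsIso ((w ≫ γ).stalkMap (genericPoint U.toScheme)) := by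
      rw [Scheme.Hom.stalkMap_congr_hom _ _ hwγ]
      infer_instance
    rw [Scheme.Hom.stalkMap_comp] at this
    have hinj : Function.Injective (w.stalkMap (genericPoint U.toScheme)) := by
      have : IsField (Γ'.presheaf.stalk (w (genericPoint U.toScheme))) := by
        rw [hwgen]; exact Field.toIsField _
      letI := this.toField
      exact (w.stalkMap (genericPoint U.toScheme)).hom.injective
    haveI : Mono (w.stalkMap (genericPoint U.toScheme)) := ConcreteCategory.mono_of_injective _ hinj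
    haveI : IsIso (w.stalkMap (genericPoint U.toScheme)) := by
      haveI : IsSplitEpi (w.stalkMap (genericPoint U.toScheme)) := IsSplitEpi.mk' ⟨inv (γ.stalkMap (w (genericPoint U.toScheme)) ≫ w.stalkMap (genericPoint U.toScheme)) ≫ γ.stalkMap _, by simp⟩
      exact isIso_of_mono_of_isSplitEpi _
    exact IsIso.of_isIso_comp_right _ (w.stalkMap (genericPoint U.toScheme))
  -- a point over `s`
  have hξs : f ξ ⤳ s := hξ ▸ (genericPoint_spec S).specializes trivial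
  obtain ⟨z, hz, hzs⟩ := hfp hξs
  obtain ⟨z', rfl⟩ : z ∈ Set.range ι := hrange ▸ specializes_iff_mem_closure.1 hz
  haveI : FormallyUnramified γ := MorphismProperty.comp_mem _ ι f inferInstance ‹_›
  haveI : LocallyQuasiFinite γ := H06Unram.DimInjective.locallyQuasiFinite_of_formallyUnramified γ
  obtain ⟨V, σ, hsV, hσ, hσo⟩ := H7Lim.exists_open_section γ hgen z' (hN _) (γ.quasiFiniteAt z')
  refine ⟨V, σ ≫ ι, hzs ▸ hsV, by rw [Category.assoc]; exact hσ, ?_⟩
  -- agreement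
  let O : U.toScheme.Opens := w ⁻¹ᵁ σ.opensRange ⊓ U.ι ⁻¹ᵁ V
  have hne : (O : Set U.toScheme).Nonempty := by
    refine ⟨genericPoint U.toScheme, ?_, ?_⟩
    · show w (genericPoint U.toScheme) ∈ σ.opensRange
      rw [hwgen]
      exact ((genericPoint_spec Γ').mem_open_set_iff σ.opensRange.2).2
        ⟨σ ⟨s, hzs ▸ hsV⟩, trivial, ⟨_, rfl⟩⟩
    · show U.ι _ ∈ V
      rw [hgU]
      exact ((genericPoint_spec S).mem_open_set_iff V.2).2 ⟨s, trivial, hzs ▸ hsV⟩
  let l : O.toScheme ⟶ V.toScheme := IsOpenImmersion.lift σ (O.ι ≫ w) (by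
    rintro _ ⟨x, rfl⟩
    exact x.2.1)
  have hl : l ≫ σ = O.ι ≫ w := IsOpenImmersion.lift_fac _ _ _
  have hlι : l ≫ V.ι = O.ι ≫ U.ι := by rw [← hσ, reassoc_of% hl, hwγ]
  let j : O.toScheme ⟶ (U ⊓ V).toScheme := IsOpenImmersion.lift (U ⊓ V).ι (O.ι ≫ U.ι) (by
    rintro _ ⟨x, rfl⟩
    rw [Scheme.Opens.range_ι]
    exact ⟨x.1.2, x.2.2⟩)
  have hj : j ≫ (U ⊓ V).ι = O.ι ≫ U.ι := IsOpenImmersion.lift_fac _ _ _
  haveI : Nonempty (U ⊓ V : S.Opens).toScheme := ⟨j ⟨hne.some, hne.some_mem⟩⟩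
  haveI : IsOpenImmersion j := by
    haveI : IsOpenImmersion (j ≫ (U ⊓ V).ι) := by rw [hj]; infer_instance
    exact IsOpenImmersion.of_comp j (U ⊓ V).ι
  haveI : IsDominant j := ⟨by
    exact IsOpen.dense j.isOpenEmbedding.isOpen_range ⟨_, ⟨⟨hne.some, hne.some_mem⟩, rfl⟩⟩⟩
  refine ext_of_isDominant_of_isSeparated f ?_ j ?_
  · rw [Category.assoc, Category.assoc, Category.assoc, hσ, hv, Scheme.homOfLE_ι, Scheme.homOfLE_ι]
  · have e1 : j ≫ S.homOfLE (inf_le_right : U ⊓ V ≤ V) = l := by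
      rw [← cancel_mono V.ι, Category.assoc, Scheme.homOfLE_ι, hj, hlι]
    have e2 : j ≫ S.homOfLE (inf_le_left : U ⊓ V ≤ U) = O.ι := by
      rw [← cancel_mono U.ι, Category.assoc, Scheme.homOfLE_ι, hj]
    rw [reassoc_of% e1, reassoc_of% e2, reassoc_of% hl, hw]

/-- A point with a domain as local ring has an irreducible open neighbourhood. -/
theorem exists_irreducible_nhd {S : Scheme.{u}} [IsLocallyNoetherian S] (s : S)
    [IsDomain (S.presheaf.stalk s)] : ∃ W : S.Opens, s ∈ W ∧ IrreducibleSpace W.toScheme := by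
  let η₀ : S := S.fromSpecStalk s (⊥ : PrimeSpectrum (S.presheaf.stalk s))
  have hη₀ : ∀ y : S, y ⤳ s → η₀ ⤳ y := fun y hy => by
    obtain ⟨q, rfl⟩ : y ∈ Set.range (S.fromSpecStalk s) := by rw [Scheme.range_fromSpecStalk]; exact hy
    exact ((PrimeSpectrum.le_iff_specializes ⊥ q).1 bot_le).map (S.fromSpecStalk s).continuous
  obtain ⟨V₀, hV₀, hsV₀, -⟩ := exists_isAffineOpen_mem_and_subset (U := (⊤ : S.Opens)) (x := s) trivial
  haveI : IsNoetherianRing Γ(S, V₀) := IsLocallyNoetherian.component_noetherian ⟨V₀, hV₀⟩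
  haveI : NoetherianSpace V₀.toScheme :=
    (noetherianSpace_iff_of_homeomorph (hV₀.isoSpec.hom.homeomorph)).2 inferInstance
  have hη₀s : η₀ ⤳ s := hη₀ s specializes_rfl
  let K : Set V₀.toScheme := ⋃ C ∈ {C ∈ irreducibleComponents V₀.toScheme | (⟨s, hsV₀⟩ : V₀.toScheme) ∉ C}, C
  have hK : IsClosed K := (NoetherianSpace.finite_irreducibleComponents.subset fun C h => h.1).isClosed_biUnion
    fun C hC => isClosed_of_mem_irreducibleComponents C hC.1
  let W : S.Opens := V₀.ι ''ᵁ ⟨Kᶜ, hK.isOpen_compl⟩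
  have hsW : s ∈ W := ⟨⟨s, hsV₀⟩, by simp [K], rfl⟩
  refine ⟨W, hsW, ?_⟩
  have hgen : ∀ y ∈ W, η₀ ⤳ y := by
    rintro _ ⟨y, hy, rfl⟩
    have hmem : y ∈ ⋃₀ irreducibleComponents V₀.toScheme := by
      rw [sUnion_irreducibleComponents]; trivial
    obtain ⟨C, hC, hyC⟩ := hmem
    have hsC : (⟨s, hsV₀⟩ : V₀.toScheme) ∈ C := by
      by_contra h
      exact hy (Set.mem_biUnion (x := C) ⟨hC, h⟩ hyC)
    obtain ⟨c, hc⟩ := QuasiSober.sober hC.1 (isClosed_of_mem_irreducibleComponents C hC)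
    exact (hη₀ _ ((hc.specializes hsC).map V₀.ι.continuous)).trans ((hc.specializes hyC).map V₀.ι.continuous)
  have hη₀W : η₀ ∈ W := hη₀s.mem_open W.2 hsW
  have h : IsPreirreducible (W : Set S) := by
    intro u v hu hv ⟨a, haW, hau⟩ ⟨b, hbW, hbv⟩
    exact ⟨η₀, hη₀W, (hgen a haW).mem_open hu hau, (hgen b hbW).mem_open hv hbv⟩
  exact { toPreirreducibleSpace := Subtype.preirreducibleSpace h, toNonempty := ⟨⟨s, hsW⟩⟩ }

/-- Rational sections extend. -/
theorem exists_section {Z S : Scheme.{u}} [IsLocallyNoetherian S] (f : Z ⟶ S) [IsSeparated f]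
    [FormallyUnramified f] [LocallyOfFiniteType f]
    (hS : ∀ x : S, IsDomain (S.presheaf.stalk x) ∧ IsIntegrallyClosed (S.presheaf.stalk x))
    (hfp : ValuativeCriterion.Existence f) (U : S.Opens) (hU : Dense (U : Set S)) (v : U.toScheme ⟶ Z)
    (hv : v ≫ f = U.ι) :
    ∃ w : S ⟶ Z, w ≫ f = 𝟙 S ∧ U.ι ≫ w = v := by
  haveI : IsReduced S := by
    haveI : ∀ x, _root_.IsReduced (S.presheaf.stalk x) := fun x => by haveI := (hS x).1; infer_instance
    exact isReduced_of_isReduced_stalk S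
  have hloc : ∀ s : S, ∃ (V : S.Opens) (σ : V.toScheme ⟶ Z), s ∈ V ∧ σ ≫ f = V.ι ∧
      S.homOfLE (inf_le_right : U ⊓ V ≤ V) ≫ σ = S.homOfLE (inf_le_left : U ⊓ V ≤ U) ≫ v := by
    intro s
    haveI := (hS s).1
    obtain ⟨W, hsW, hW⟩ := exists_irreducible_nhd s
    haveI := hW
    haveI : IsReduced W.toScheme := isReduced_of_isOpenImmersion W.ι
    haveI : IsIntegral W.toScheme := isIntegral_of_irreducibleSpace_of_isReduced _
    let U' : W.toScheme.Opens := W.ι ⁻¹ᵁ U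
    have hU' : (U' : Set W.toScheme).Nonempty := by
      obtain ⟨x, hxW, hxU⟩ := hU.inter_open_nonempty W W.2 ⟨s, hsW⟩
      exact ⟨⟨x, hxW⟩, hxU⟩
    let f' := f ∣_ W
    haveI : IsSeparated f' := IsZariskiLocalAtTarget.restrict ‹IsSeparated f› W
    haveI : FormallyUnramified f' := IsZariskiLocalAtTarget.restrict ‹FormallyUnramified f› W
    haveI : LocallyOfFiniteType f' := IsZariskiLocalAtTarget.restrict ‹LocallyOfFiniteType f› W
    have hsp : SpecializingMap f' := by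
      intro x y hxy
      have hsp0 : f ((f ⁻¹ᵁ W).ι x) ⤳ W.ι y := by
        rw [← Scheme.Hom.comp_apply, ← morphismRestrict_ι, Scheme.Hom.comp_apply]
        exact hxy.map W.ι.continuous
      obtain ⟨z, hxz, hzy⟩ := ValuativeCriterion.Existence.specializingMap f hfp hsp0
      have hzW : z ∈ f ⁻¹ᵁ W := show f z ∈ W from hzy ▸ y.2
      refine ⟨⟨z, hzW⟩, ?_, ?_⟩
      · exact (f ⁻¹ᵁ W).ι.isOpenEmbedding.isInducing.specializes_iff.1 hxz
      · apply W.ι.isOpenEmbedding.injective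
        rw [← Scheme.Hom.comp_apply, morphismRestrict_ι, Scheme.Hom.comp_apply]
        exact hzy
    let u' : U'.toScheme ⟶ U.toScheme := IsOpenImmersion.lift U.ι (U'.ι ≫ W.ι) (by
      rintro _ ⟨x, rfl⟩
      rw [Scheme.Opens.range_ι]
      exact x.2)
    have hu' : u' ≫ U.ι = U'.ι ≫ W.ι := IsOpenImmersion.lift_fac _ _ _
    let v' : U'.toScheme ⟶ (f ⁻¹ᵁ W).toScheme := IsOpenImmersion.lift (f ⁻¹ᵁ W).ι (u' ≫ v) (by
      rintro _ ⟨x, rfl⟩
      rw [Scheme.Opens.range_ι]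
      show f (v (u' x)) ∈ W
      rw [← Scheme.Hom.comp_apply, hv, ← Scheme.Hom.comp_apply, hu']
      exact x.1.2)
    have hv'' : v' ≫ (f ⁻¹ᵁ W).ι = u' ≫ v := IsOpenImmersion.lift_fac _ _ _
    have hv' : v' ≫ f' = U'.ι := by
      rw [← cancel_mono W.ι, Category.assoc, morphismRestrict_ι, reassoc_of% hv'', hv, hu']
    have hN : ∀ y : W.toScheme, IsIntegrallyClosed (W.toScheme.presheaf.stalk y) := fun y => by
      haveI := (hS (W.ι y)).2
      haveI := (hS (W.ι y)).1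
      exact IsIntegrallyClosed.of_equiv (asIso (W.ι.stalkMap y)).commRingCatIsoToRingEquiv
    obtain ⟨V, σ, hsV, hσ, hag⟩ := exists_local_section f' hN hsp U' hU' v' hv' ⟨s, hsW⟩
    let e := (W.ι.isoImage V).inv
    refine ⟨W.ι ''ᵁ V, e ≫ σ ≫ (f ⁻¹ᵁ W).ι, ⟨_, hsV, rfl⟩, ?_, ?_⟩
    · rw [Category.assoc, Category.assoc, ← morphismRestrict_ι, reassoc_of% hσ, Scheme.Hom.isoImage_inv_ι]
    let k : (U ⊓ W.ι ''ᵁ V : S.Opens).toScheme ⟶ (U' ⊓ V : W.toScheme.Opens).toScheme :=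
      IsOpenImmersion.lift ((U' ⊓ V).ι ≫ W.ι) (U ⊓ W.ι ''ᵁ V).ι (by
        rintro _ ⟨⟨x, hxU, w, hwV, hwx⟩, rfl⟩
        refine ⟨⟨w, show W.ι w ∈ U from hwx ▸ hxU, hwV⟩, ?_⟩
        exact hwx)
    have hk : k ≫ (U' ⊓ V).ι ≫ W.ι = (U ⊓ W.ι ''ᵁ V).ι := IsOpenImmersion.lift_fac _ _ _
    have k1 : S.homOfLE (inf_le_right : U ⊓ W.ι ''ᵁ V ≤ W.ι ''ᵁ V) ≫ e =
        k ≫ W.toScheme.homOfLE (inf_le_right : U' ⊓ V ≤ V) := by
      rw [← cancel_mono (V.ι ≫ W.ι)]
      simp [e, Scheme.Hom.isoImage_inv_ι, hk]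
    have k2 : k ≫ W.toScheme.homOfLE (inf_le_left : U' ⊓ V ≤ U') ≫ u' =
        S.homOfLE (inf_le_left : U ⊓ W.ι ''ᵁ V ≤ U) := by
      rw [← cancel_mono U.ι]
      simp [hu', hk]
    rw [reassoc_of% k1, reassoc_of% hag, hv'', ← reassoc_of% k2]
  choose V σ hsV hσ hag using hloc
  let 𝒰 := S.openCoverOfIsOpenCover V (IsOpenCover.mk (eq_top_iff.2 fun x _ => Opens.mem_iSup.2 ⟨x, hsV x⟩))
  let w : S ⟶ Z := 𝒰.glueMorphisms σ (fun a b => by
    haveI : IsReduced (pullback (𝒰.f a) (𝒰.f b)) :=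
      isReduced_of_isOpenImmersion (pullback.fst (𝒰.f a) (𝒰.f b) ≫ 𝒰.f a)
    let c := pullback.fst (𝒰.f a) (𝒰.f b) ≫ 𝒰.f a
    let O := c ⁻¹ᵁ U
    haveI : IsDominant O.ι := ⟨by
      rw [DenseRange, Scheme.Opens.range_ι]
      exact hU.preimage c.isOpenEmbedding.isOpenMap⟩
    refine ext_of_isDominant_of_isSeparated f ?_ O.ι ?_
    · simp only [Category.assoc, hσ]
      exact pullback.condition
    let o : O.toScheme ⟶ U.toScheme := IsOpenImmersion.lift U.ι (O.ι ≫ c) (by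
      rintro _ ⟨x, rfl⟩
      rw [Scheme.Opens.range_ι]
      exact x.2)
    have ho : o ≫ U.ι = O.ι ≫ c := IsOpenImmersion.lift_fac _ _ _
    have key : ∀ (a' : S) (q : pullback (𝒰.f a) (𝒰.f b) ⟶ (V a').toScheme), q ≫ (V a').ι = c →
        O.ι ≫ q ≫ σ a' = o ≫ v := by
      intro a' q hq
      let p : O.toScheme ⟶ (U ⊓ V a').toScheme := IsOpenImmersion.lift (U ⊓ V a').ι (O.ι ≫ c) (by
        rintro _ ⟨x, rfl⟩
        rw [Scheme.Opens.range_ι]
        refine ⟨x.2, ?_⟩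
        rw [Scheme.Hom.comp_apply, ← hq, Scheme.Hom.comp_apply]
        exact (q _).2)
      have hp : p ≫ (U ⊓ V a').ι = O.ι ≫ c := IsOpenImmersion.lift_fac _ _ _
      have p1 : O.ι ≫ q = p ≫ S.homOfLE (inf_le_right : U ⊓ V a' ≤ V a') := by
        rw [← cancel_mono (V a').ι, Category.assoc, hq, Category.assoc, Scheme.homOfLE_ι, hp]
      have p2 : o = p ≫ S.homOfLE (inf_le_left : U ⊓ V a' ≤ U) := by
        rw [← cancel_mono U.ι, Category.assoc, Scheme.homOfLE_ι, hp, ho]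
      rw [reassoc_of% p1, hag a', p2, Category.assoc]
    exact (key a (pullback.fst _ _) rfl).trans
      (key b (pullback.snd _ _) pullback.condition.symm).symm)
  refine ⟨w, ?_, ?_⟩
  · refine 𝒰.hom_ext _ _ fun a => ?_
    rw [𝒰.ι_glueMorphisms_assoc, Category.comp_id]
    exact hσ a
  · refine Scheme.Cover.hom_ext (U.toScheme.openCoverOfIsOpenCover
      (fun a => U.ι ⁻¹ᵁ V a) (IsOpenCover.mk (eq_top_iff.2 fun x _ => Opens.mem_iSup.2 ⟨x.1, hsV x.1⟩))) _ _ fun (a : S) => ?_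
    show (U.ι ⁻¹ᵁ V a).ι ≫ U.ι ≫ w = (U.ι ⁻¹ᵁ V a).ι ≫ v
    let p : (U.ι ⁻¹ᵁ V a).toScheme ⟶ (U ⊓ V a).toScheme := IsOpenImmersion.lift (U ⊓ V a).ι
      ((U.ι ⁻¹ᵁ V a).ι ≫ U.ι) (by
        rintro _ ⟨x, rfl⟩
        rw [Scheme.Opens.range_ι]
        exact ⟨x.1.2, x.2⟩)
    have hp : p ≫ (U ⊓ V a).ι = (U.ι ⁻¹ᵁ V a).ι ≫ U.ι := IsOpenImmersion.lift_fac _ _ _
    have p1 : (U.ι ⁻¹ᵁ V a).ι ≫ U.ι = (p ≫ S.homOfLE (inf_le_right : U ⊓ V a ≤ V a)) ≫ 𝒰.f a := by
      show _ = _ ≫ (V a).ι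
      rw [Category.assoc, Scheme.homOfLE_ι, hp]
    have p2 : (U.ι ⁻¹ᵁ V a).ι = p ≫ S.homOfLE (inf_le_left : U ⊓ V a ≤ U) := by
      rw [← cancel_mono U.ι, Category.assoc, Scheme.homOfLE_ι, hp]
    rw [reassoc_of% p1, 𝒰.ι_glueMorphisms, hag a, reassoc_of% p2]

end Groth.Agent.H06FormProper
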